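import Cfsg.Agent.Lib.Fusion.Saturation

/-
Automorphisms and maps agreeing on a centric subgroup.
Main results (namespace `Cfsg.Agent.FusionSub`):
* `eq_conj_of_fixes_centric`: an automorphism in a saturated system fixing a centric subgroup `Q`
  pointwise is conjugation by an element of `Q`;
* `isMap_of_restrict_centric`: for saturated `F' ≤ F`, a map of `F` whose restriction to an
  `F`-centric subgroup lies in `F'` lies in `F'`.
-/

set_option autoImplicit false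

namespace Cfsg.Agent.FusionSub

open Cfsg Cfsg.FusionSystem Cfsg.Agent.Fusion

variable {Ω : Type*} [Group Ω] {S : Subgroup Ω} {F F' : FusionSystem S} {p : ℕ}

theorem eq_conj_of_fixes_centric [Finite S] [Fact p.Prime] (hS : IsPGroup p S)
    (hF : F.IsSaturated p) {N Q : Subgroup Ω} (hN : N ≤ S) (hQN : Q ≤ N) (hQ : F.IsCentric Q)
    (hnorm : N ≤ normalizerIn S Q) {δ : MulAut N} (hδ : δ ∈ F.autGroup N)
    (hfix : ∀ q (hq : q ∈ Q), ((δ ⟨q, hQN hq⟩ : N) : Ω) = q) :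
    ∃ z ∈ Q, ∀ x : N, ((δ x : N) : Ω) = z * x * z⁻¹ := by
  have hfix' : ∀ q (hq : q ∈ Q), δ ⟨q, hQN hq⟩ = ⟨q, hQN hq⟩ := fun q hq => Subtype.ext (hfix q hq)
  have hz : ∀ x : N, (((x⁻¹ * δ x : N)) : Ω) ∈ Q := by
    intro x
    refine hQ.2 Q (isConj_refl F hQ.1) (mem_centralizerIn_of_conj (hN (x⁻¹ * δ x).2) fun q hq => ?_)
    have hxq : (x : Ω) * q * (x : Ω)⁻¹ ∈ Q := normalizerIn_conj (hnorm x.2) hq
    have h1 : δ (x * ⟨q, hQN hq⟩ * x⁻¹) = x * ⟨q, hQN hq⟩ * x⁻¹ := hfix' _ hxq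
    rw [map_mul, map_mul, map_inv, hfix' q hq] at h1
    have h2 : x⁻¹ * δ x * ⟨q, hQN hq⟩ * (x⁻¹ * δ x)⁻¹ = (⟨q, hQN hq⟩ : N) := by
      calc x⁻¹ * δ x * ⟨q, hQN hq⟩ * (x⁻¹ * δ x)⁻¹
          = x⁻¹ * (δ x * ⟨q, hQN hq⟩ * (δ x)⁻¹) * x := by group
        _ = ⟨q, hQN hq⟩ := by rw [h1]; group
    exact congrArg Subtype.val h2
  have hpow : ∀ (x : N) (n : ℕ), (δ ^ n) x = x * (x⁻¹ * δ x) ^ n := by
    intro x n
    induction n with
    | zero => simp
    | succ m ih =>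
      have hzfix : δ (x⁻¹ * δ x) = x⁻¹ * δ x := hfix' _ (hz x)
      rw [pow_succ', MulAut.mul_apply, ih, map_mul, map_pow, hzfix, pow_succ', ← mul_assoc]
      simp
  obtain ⟨m, hm⟩ := IsPGroup.iff_card.1 hS
  have hδ1 : δ ^ p ^ m = 1 := by
    refine MulEquiv.ext fun x => ?_
    rw [hpow, MulAut.one_apply]
    have hzS : (⟨((x⁻¹ * δ x : N) : Ω), hN (x⁻¹ * δ x).2⟩ : S) ^ p ^ m = 1 := by
      rw [← hm]
      exact pow_card_eq_one'
    have hzN : (x⁻¹ * δ x) ^ p ^ m = 1 := by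
      refine Subtype.ext ?_
      rw [SubgroupClass.coe_pow]
      exact congrArg Subtype.val hzS
    rw [hzN, mul_one]
  obtain ⟨R, f, hR, hf, himg, -⟩ := exists_fullyNormalized_map hS hF hN
  have hiso : IsIso F N R f := ⟨hf.mono (le_normalizerIn hN), himg⟩
  set ε := MulAut.congr hiso.equiv δ with hεdef
  have hε : ε ∈ F.autGroup R := Fusion.congr_mem_autGroup hiso hδ
  have := finite_mulAut (S := S) hR.1
  have hH : IsPGroup p (Subgroup.zpowers ε) := by
    rintro ⟨x, hx⟩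
    obtain ⟨n, rfl⟩ := Subgroup.mem_zpowers_iff.1 hx
    refine ⟨m, Subtype.ext ?_⟩
    show (ε ^ n) ^ p ^ m = 1
    rw [← zpow_natCast, ← zpow_mul, mul_comm, zpow_mul, zpow_natCast, hεdef, ← map_pow, hδ1,
      map_one, one_zpow]
  obtain ⟨a, ha, hconj⟩ := (isFullyAutomized_iff.1
    (fullyAutomized_of_fullyNormalized hS hF hR)).2.exists_conj_le hH (Subgroup.zpowers_le.2 hε)
  obtain ⟨g, hg, hge⟩ := mem_autInducedBy_iff.1 (hconj ε (Subgroup.mem_zpowers ε))
  have hh : IsIso F N R (fun x => autFn a (f x)) := hiso.trans (isIso_autFn hR.1 ha)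
  have key : ∀ x : N, autFn a (f ((δ x : N) : Ω)) = g * autFn a (f x) * g⁻¹ := by
    intro x
    have h1 := hge (a (hiso.equiv x))
    rw [MulAut.mul_apply, MulAut.mul_apply, MulAut.inv_apply_self] at h1
    have e1 : ε (hiso.equiv x) = hiso.equiv (δ x) := Subtype.ext (congr_apply_coe hiso δ x)
    rw [e1] at h1
    rwa [autFn_apply a (hiso.mem (δ x).2), autFn_apply a (hiso.mem x.2)]
  have hcQ : F.IsConj Q (img (fun x => autFn a (f x)) Q) := isConj_iff.2 ⟨_, hh.mono hQN⟩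
  have hgQ : g ∈ img (fun x => autFn a (f x)) Q := by
    refine hQ.2 _ hcQ (mem_centralizerIn_of_conj hg fun y hy => ?_)
    obtain ⟨q, hq, rfl⟩ := (hh.1.mem_img_iff hQN).1 hy
    have := key ⟨q, hQN hq⟩
    rw [hfix q hq] at this
    exact this.symm
  obtain ⟨z, hzQ, hzg⟩ := (hh.1.mem_img_iff hQN).1 hgQ
  refine ⟨z, hzQ, fun x => ?_⟩
  refine hh.1.inj (δ x).2 (mul_mem (mul_mem (hQN hzQ) x.2) (inv_mem (hQN hzQ))) ?_
  rw [hh.1.map_conj (hQN hzQ) x.2]
  exact (key x).trans (by rw [← hzg])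

theorem isMap_of_restrict_centric [Finite S] [Fact p.Prime] (hS : IsPGroup p S)
    (hF : F.IsSaturated p) (hF' : F'.IsSaturated p) (hle : F' ≤ F) {Q R : Subgroup Ω}
    (hQ : F.IsCentric Q) (hQR : Q ≤ R) {f : Ω → Ω} (hf : IsMap F R f) (hfQ : IsMap F' Q f) :
    IsMap F' R f := by
  induction h : Nat.card S - Nat.card Q using Nat.strong_induction_on generalizing Q with
  | _ n ih =>
    rcases eq_or_lt_of_le hQR with rfl | hlt
    · exact hfQ
    set N := normalizerIn R Q with hNdef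
    have hQN : Q < N := lt_normalizerIn hS hf.le hlt
    have hNR : N ≤ R := inf_le_left
    have hNS : N ≤ S := hNR.trans hf.le
    have hnorm : N ≤ normalizerIn S Q := fun g hg => ⟨hf.le hg.1, hg.2⟩
    haveI := finite_of_le (S := S) hQ.1
    haveI := finite_of_le (S := S) hNS
    have hcard : Nat.card Q < Nat.card N := lt_of_le_of_ne (Subgroup.card_le_of_le hQN.le)
      fun e => hQN.ne (Subgroup.eq_of_le_of_card_ge hQN.le e.ge)
    have hcent : F.IsCentric N := by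
      refine ⟨hNS, fun N' hN' => ?_⟩
      obtain ⟨g, hg⟩ := isConj_iff.1 hN'
      have hQ' : F.IsConj Q (img g Q) := isConj_iff.2 ⟨g, hg.mono hQN.le⟩
      have hsub : img g Q ≤ N' := hg.1.img_le hQN.le fun x hx => hg.mem (hQN.le hx)
      intro c hc
      refine hsub (hQ.2 _ hQ' ?_)
      obtain ⟨hcS, hcc⟩ := mem_centralizerIn.1 hc
      exact mem_centralizerIn.2 ⟨hcS, fun x hx => hcc x (hsub hx)⟩
    have hcle : Nat.card N ≤ Nat.card S := Subgroup.card_le_of_le hNS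
    refine ih (Nat.card S - Nat.card N) (by omega) hcent hNR ?_ rfl
    -- extend inside `F'`
    set Q₁ := img f Q with hQ₁
    have hconjF : ∀ Q' : Subgroup Ω, F'.IsConj Q₁ Q' → centralizerIn S Q' ≤ Q' := by
      intro Q' h'
      obtain ⟨g, hg⟩ := isConj_iff.1 h'
      exact hQ.2 Q' (isConj_trans (isConj_iff.2 ⟨f, hfQ.isIso.1 |> isMap_of_le hle, rfl⟩)
        (isConj_iff.2 ⟨g, isMap_of_le hle hg.1, hg.2⟩))
    have hfc : F'.IsFullyCentralized Q₁ := by
      refine ⟨hfQ.img_le_S, fun Q' h' => ?_⟩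
      obtain ⟨g, hg⟩ := isConj_iff.1 (isConj_symm h')
      have hC : centralizerIn S Q' ≤ Q' := hconjF Q' h'
      rw [← hg.1.card_img hC]
      haveI := finite_of_le (S := S) (P := centralizerIn S Q₁) inf_le_left
      exact Subgroup.card_le_of_le (hg.1.img_le hC fun c hc =>
        map_centralizerIn hg.1 le_rfl hg.2 (hC hc) hc)
    obtain ⟨ψ, hψ, heq⟩ := (isReceptive_iff.1 (receptive_of_fullyCentralized hS hF' hfc)).2
      Q f hfQ.isIso
    have hψN : IsMap F' N ψ := hψ.mono fun g hg => mem_Nx.2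
      ⟨hnorm hg, f g, hf.mem (hNR hg), fun x hx => hf.map_conj (hNR hg) (hQR hx)⟩
    have hfN : IsMap F N f := hf.mono hNR
    have hQimg : ∀ x ∈ Q, f x ∈ Q₁ := fun x hx => hfQ.mem_img hx
    have himg : img ψ N = img f N := by
      have hsub : img f N ≤ img ψ N := by
        refine hfN.img_le le_rfl fun g hg => ?_
        have hc : (ψ g)⁻¹ * f g ∈ Q₁ := by
          refine hconjF Q₁ (isConj_refl F' hfQ.img_le_S) (mem_centralizerIn_of_conj
            (S.mul_mem (S.inv_mem (hψN.mem hg)) (hfN.mem hg)) fun y hy => ?_)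
          obtain ⟨x, hx, rfl⟩ := (hfQ.mem_img_iff le_rfl).1 hy
          have hgx : g * x * g⁻¹ ∈ Q := normalizerIn_conj (hnorm hg) hx
          have h1 : f g * f x * (f g)⁻¹ = ψ g * f x * (ψ g)⁻¹ := by
            rw [← hfN.map_conj hg (hQN.le hx), ← heq _ hgx, hψN.map_conj hg (hQN.le hx), heq x hx]
          calc (ψ g)⁻¹ * f g * f x * ((ψ g)⁻¹ * f g)⁻¹
              = (ψ g)⁻¹ * (f g * f x * (f g)⁻¹) * ψ g := by group
            _ = f x := by rw [h1]; group
        obtain ⟨q, hq, hqe⟩ := (hfQ.mem_img_iff le_rfl).1 hc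
        have : f g = ψ (g * q) := by
          rw [hψN.map_mul hg (hQN.le hq), heq q hq, hqe, mul_inv_cancel_left]
        rw [this]
        exact hψN.mem_img (mul_mem hg (hQN.le hq))
      exact (eq_of_le_of_card hψN.img_le_S hsub
        (by rw [hψN.card_img le_rfl, hfN.card_img le_rfl])).symm
    obtain ⟨ψi, hψi, hψ1, hψ2⟩ := (show IsIso F' N (img f N) ψ from ⟨hψN, himg⟩).symm
    obtain ⟨δ, hδ, hδe⟩ := exists_aut_of_isIso
      ((hfN.isIso).trans ⟨isMap_of_le hle hψi.1, hψi.2⟩)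
    obtain ⟨z, hz, hδz⟩ := eq_conj_of_fixes_centric hS hF hNS hQN.le hQ hnorm hδ fun q hq => by
      rw [hδe]
      show ψi (f q) = q
      rw [← heq q hq, hψ1 q (hQN.le hq)]
    refine ((IsMap.conj (F := F') hNS (hQ.1 hz)).comp hψN fun x hx =>
      mul_mem (mul_mem (hQN.le hz) hx) (inv_mem (hQN.le hz))).congr fun x hx => ?_
    show ψ (z * x * z⁻¹) = f x
    rw [← hδz ⟨x, hx⟩, hδe]
    exact hψ2 _ (hfN.mem_img hx)

end Cfsg.Agent.FusionSub
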